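import Groth.Agent.CanonDual.MonadRep
import Groth.Agent.SerreVan45.ProjAffine
import Groth.Agent.SheafHomX.Coherent
import Groth.Agent.QCoh.CokerQC
import Groth.Agent.QCoh.DevissageP
import Groth.Agent.QCoh.Extension

/-!
# The right adjoint of the direct image along a finite morphism
-/

set_option autoImplicit false
set_option linter.style.haveILetI false
set_option backward.isDefEq.respectTransparency false
set_option backward.isDefEq.respectTransparency.types false
set_option maxHeartbeats 1000000

universe u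

open CategoryTheory CategoryTheory.Limits AlgebraicGeometry TopologicalSpace Opposite

namespace Groth.Agent.CanonDual

variable {X Z : Scheme.{u}} (π : X ⟶ Z)

/-- Direct image along an affine morphism preserves cokernels of quasi-coherent modules. -/
theorem preservesColimit_parallelPair_push [IsAffineHom π] {A B : X.Modules} (α : A ⟶ B)
    (hA : Coh.IsQCoh A) (hB : Coh.IsQCoh B) :
    PreservesColimit (parallelPair α 0) (Scheme.Modules.pushforward π) := by
  let U := Scheme.Modules.pushforward π
  let c := cokernelComparison α U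
  have hC : Coh.IsQCoh (cokernel α) := QCoh.isQCoh_cokernel hA hB α
  have hA' := QCoh.isQCoh_pushforward π hA
  have hB' := QCoh.isQCoh_pushforward π hB
  have hC' : Coh.IsQCoh (cokernel (U.map α)) := QCoh.isQCoh_cokernel hA' hB' _
  have hcx : ∀ (V : Z.Opens) (x : Γ(U.obj B, V)),
      c.app V ((cokernel.π (U.map α)).app V x) = (U.map (cokernel.π α)).app V x := fun V x =>
    congr(($(π_comp_cokernelComparison α U)).app V x)
  haveI : IsIso c := RPSM.isIso_of_bijective_affines c fun V => by
    constructor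
    · refine (injective_iff_map_eq_zero _).2 fun y hy => ?_
      obtain ⟨x, rfl⟩ := QCoh.app_surjective_of_epi hB' hC' (cokernel.π (U.map α)) V.2 y
      rw [hcx] at hy
      let S := ShortComplex.mk α (cokernel.π α) (cokernel.condition α)
      have hker : Coh.IsQCoh (kernel (cokernel.π α)) := QCoh.isQCoh_kernel hB hC _
      haveI : Epi (kernel.lift (cokernel.π α) α (cokernel.condition α)) :=
        inferInstanceAs (Epi (Abelian.factorThruImage α))
      have hW : IsAffineOpen (π ⁻¹ᵁ V.1) := V.2.preimage π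
      have hS : (ShortComplex.mk (kernel.ι (cokernel.π α)) (cokernel.π α) (kernel.condition _)).ShortExact :=
        { exact := ShortComplex.exact_kernel _, mono_f := inferInstance, epi_g := inferInstance }
      obtain ⟨k, hk⟩ := QCoh.exists_app_f_eq hS (π ⁻¹ᵁ V.1) x hy
      obtain ⟨a, rfl⟩ := QCoh.app_surjective_of_epi hA hker
        (kernel.lift (cokernel.π α) α (cokernel.condition α)) hW k
      have hx : (U.map α).app V.1 a = x := by
        refine Eq.trans ?_ hk
        exact congr(($(kernel.lift_ι (cokernel.π α) α (cokernel.condition α))).app (π ⁻¹ᵁ V.1) a).symm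
      rw [← hx]
      exact congr(($(cokernel.condition (U.map α))).app V.1 a)
    · intro y
      obtain ⟨x, hx⟩ := QCoh.app_surjective_of_epi hB hC (cokernel.π α) (V.2.preimage π) y
      exact ⟨(cokernel.π (U.map α)).app V.1 x, (hcx _ _).trans hx⟩
  exact PreservesCokernel.of_iso_comparison U α

/-- Direct image along an affine morphism reflects isomorphisms of quasi-coherent modules. -/
theorem isIso_of_isIso_push [IsAffineHom π] {F F' : X.Modules} (φ : F ⟶ F') (hF : Coh.IsQCoh F)
    (hF' : Coh.IsQCoh F') (h : IsIso ((Scheme.Modules.pushforward π).map φ)) : IsIso φ := by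
  let W : Z.affineOpens → X.Opens := fun V => π ⁻¹ᵁ V.1
  have hcov : ∀ x : X, ∃ V, x ∈ W V := fun x => by
    obtain ⟨_, ⟨V, hV, rfl⟩, hxV, -⟩ := Z.isBasis_affineOpens.exists_subset_of_mem_open (Set.mem_univ (π x)) isOpen_univ
    exact ⟨⟨V, hV⟩, hxV⟩
  have hb : ∀ V, Function.Bijective (φ.app (W V)) := fun V => by
    haveI := Scheme.Modules.Hom.isIso_iff_isIso_app.1 h V.1
    exact ConcreteCategory.bijective_of_isIso (((Scheme.Modules.pushforward π).map φ).app V.1)
  have hK : IsZero (kernel φ) := QCoh.isZero_of_cover (QCoh.isQCoh_kernel hF hF' φ) W (fun V => V.2.preimage π) hcov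
    fun V => ⟨fun a b => QCoh.app_injective (kernel.ι φ) (W V) ((hb V).1 (by
      have h0 := fun c : Γ(kernel φ, W V) => congrArg (fun q : kernel φ ⟶ F' => q.app (W V) c) (kernel.condition φ)
      exact (h0 a).trans (h0 b).symm))⟩
  have hC : IsZero (cokernel φ) := QCoh.isZero_of_cover (QCoh.isQCoh_cokernel hF hF' φ) W (fun V => V.2.preimage π) hcov
    fun V => ⟨fun a b => by
      have h0 : ∀ c : Γ(cokernel φ, W V), c = 0 := fun c => by
        obtain ⟨t, rfl⟩ := QCoh.app_surjective_of_epi hF' (QCoh.isQCoh_cokernel hF hF' φ) (cokernel.π φ) (V.2.preimage π) c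
        obtain ⟨r, rfl⟩ := (hb V).2 t
        exact congr(($(cokernel.condition φ)).app (W V) r)
      rw [h0 a, h0 b]⟩
  haveI : Mono φ := Preadditive.mono_of_kernel_zero (hK.eq_of_src _ _)
  haveI : Epi φ := Preadditive.epi_of_cokernel_zero (hC.eq_of_tgt _ _)
  exact isIso_of_mono_of_epi φ

/-- `F ↦ Hom(π_* F, ω)` is representable by a coherent module for `π` finite and `ω` coherent. -/
theorem exists_pushHom_represents [IsFinite π] [IsLocallyNoetherian Z] {ω : Z.Modules} (hω : Coh.IsCoh ω) :
    ∃ (W : X.Modules) (τ : (Coh.push π).obj W ⟶ ω), Coh.IsCoh W ∧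
      ∀ F : X.Modules, Coh.IsQCoh F → Function.Bijective fun φ : F ⟶ W => (Coh.push π).map φ ≫ τ := by
  let U := Scheme.Modules.pushforward π
  let L := Scheme.Modules.pullback π
  let adj := Scheme.Modules.pullbackPushforwardAdjunction π
  haveI : IsLocallyNoetherian X := LocallyOfFiniteType.isLocallyNoetherian π
  let O := Coh.structureModule X
  have hO : Coh.IsQCoh O := (QCoh.isCoh_structureModule' (X := X)).1
  let E := U.obj O
  have hE : Coh.IsCoh E := QCoh.isCoh_pushforward_finite π (QCoh.isCoh_structureModule' (X := X))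
  let N := (SheafHomX.hom E).obj ω
  have hN : Coh.IsCoh N := SheafHomX.isCoh_hom hE hω
  let lam : DCoh.tensorBi.obj O ≅ 𝟭 X.Modules :=
    ((KFlatLib.tensorBiFlipIso X).app O).symm ≪≫ KFlatLib.tensorStructureIso X
  let θ : SheafHomX.ten E ⟶ L ⋙ U :=
    { app := fun G => ((KFlatLib.tensorBiFlipIso Z).app E).hom.app G ≫ KFlatLib.projMod π O G ≫
        U.map (lam.hom.app (L.obj G))
      naturality := fun G G' g => by
        refine ((Category.assoc _ _ _).symm.trans (congrArg (· ≫ _)
          (((KFlatLib.tensorBiFlipIso Z).app E).hom.naturality g))).trans ?_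
        simp only [Category.assoc]
        refine congrArg (_ ≫ ·) ?_
        refine ((Category.assoc _ _ _).symm.trans (congrArg (· ≫ _)
          (KFlatLib.projMod_naturality_right π O g))).trans ?_
        refine (Category.assoc _ _ _).trans (congrArg (_ ≫ ·) ?_)
        rw [← U.map_comp, lam.hom.naturality, U.map_comp]
        rfl }
  have hθ : ∀ G, Coh.IsQCoh G → IsIso (θ.app G) := fun G hG => by
    haveI := SerreVan45.isIso_projMod π O G hO hG
    show IsIso (((KFlatLib.tensorBiFlipIso Z).app E).hom.app G ≫ KFlatLib.projMod π O G ≫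
        U.map (lam.hom.app (L.obj G)))
    infer_instance
  haveI := hθ N hN.1
  obtain ⟨W, τ, ρ, hW, hb⟩ := exists_represents_push adj Coh.IsQCoh Coh.IsQCoh
    (fun G hG => QCoh.isQCoh_pullback π hG) (fun F hF => QCoh.isQCoh_pushforward π hF)
    (fun f h h' => QCoh.isQCoh_cokernel h h' f)
    (fun f h h' => preservesColimit_parallelPair_push π f h h')
    (fun φ h h' i => isIso_of_isIso_push π φ h h' i) hN.1
    (inv (θ.app N) ≫ (SheafHomX.adj E).counit.app ω) fun G hG => by
      haveI := hθ G hG
      refine (congrArg Function.Bijective (funext fun g => ?_)).mp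
        (((asIso (θ.app G)).symm.homCongr (Iso.refl ω)).symm.bijective.comp
          ((SheafHomX.adj E).homEquiv G ω).symm.bijective)
      show (asIso (θ.app G)).inv ≫ ((SheafHomX.adj E).homEquiv G ω).symm g ≫ 𝟙 _ = _
      rw [Category.comp_id, Adjunction.homEquiv_counit, asIso_inv, IsIso.inv_comp_eq,
        ← Category.assoc (θ.app G)]
      show _ = (θ.app G ≫ (L ⋙ U).map g) ≫ _
      rw [← θ.naturality g, Category.assoc, IsIso.hom_inv_id_assoc]
  refine ⟨W, τ, ⟨hW, ?_⟩, hb⟩
  have hUW : Coh.IsCoh (U.obj W) := SheafHomX.isCoh_of_iso ρ.symm hN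
  refine QCoh.isFT_of_finite hW (fun V : Z.affineOpens => π ⁻¹ᵁ V.1)
    (top_le_iff.1 fun x _ => Opens.mem_iSup.2 <| by
      obtain ⟨_, ⟨V, hV, rfl⟩, hxV, -⟩ := Z.isBasis_affineOpens.exists_subset_of_mem_open (Set.mem_univ (π x)) isOpen_univ
      exact ⟨⟨V, hV⟩, hxV⟩) (fun V => V.2.preimage π) fun V => ?_
  letI : Algebra Γ(Z, V.1) Γ(X, π ⁻¹ᵁ V.1) := (π.app V.1).hom.toAlgebra
  letI : Module Γ(Z, V.1) Γ(W, π ⁻¹ᵁ V.1) := Module.compHom _ (π.app V.1).hom
  haveI : IsScalarTower Γ(Z, V.1) Γ(X, π ⁻¹ᵁ V.1) Γ(W, π ⁻¹ᵁ V.1) := .of_algebraMap_smul fun _ _ => rfl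
  haveI : Module.Finite Γ(Z, V.1) Γ(W, π ⁻¹ᵁ V.1) := by
    haveI := QCoh.finite_of_isFT hUW.1 hUW.2 V.2
    exact Module.Finite.equiv
      ({ toFun := fun x => x, invFun := fun x => x, left_inv := fun _ => rfl, right_inv := fun _ => rfl,
         map_add' := fun _ _ => rfl, map_smul' := fun r x => QCoh.pushforward_smul π V.1 r x } :
        Γ(U.obj W, V.1) ≃ₗ[Γ(Z, V.1)] Γ(W, π ⁻¹ᵁ V.1))
  exact Module.Finite.of_restrictScalars_finite Γ(Z, V.1) Γ(X, π ⁻¹ᵁ V.1) Γ(W, π ⁻¹ᵁ V.1)

end Groth.Agent.CanonDual
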