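import Groth.Agent.QGorRing.FibreVanish
import Groth.Agent.QcqsColim.FTSub

/-!
# Vanishing of cohomology over an affine base above the fibre dimension
-/

set_option linter.style.haveILetI false
set_option backward.isDefEq.respectTransparency false
set_option backward.isDefEq.respectTransparency.types false
set_option maxHeartbeats 1000000

universe u

open CategoryTheory CategoryTheory.Limits AlgebraicGeometry TopologicalSpace Opposite
open scoped TensorProduct

namespace Groth.Agent.CanonDual

variable {A : Type u} [CommRing A] [IsNoetherianRing A] {X : Scheme.{u}}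
  [X.Over (Spec (CommRingCat.of A))] [IsProper (X ↘ Spec (CommRingCat.of A))]

theorem compactSpace_of_proper_over (A : Type u) [CommRing A] (X : Scheme.{u})
    [X.Over (Spec (CommRingCat.of A))] [IsProper (X ↘ Spec (CommRingCat.of A))] : CompactSpace X :=
  QuasiCompact.compactSpace_of_compactSpace (X ↘ Spec (CommRingCat.of A))

theorem isSeparated_of_proper_over (A : Type u) [CommRing A] (X : Scheme.{u})
    [X.Over (Spec (CommRingCat.of A))] [IsProper (X ↘ Spec (CommRingCat.of A))] : X.IsSeparated := ⟨by
  rw [← Limits.terminal.comp_from (X ↘ Spec (CommRingCat.of A))]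
  infer_instance⟩

/-- Vanishing for coherent modules. -/
theorem subsingleton_HH_coh {r : ℕ}
    (hfib : ∀ y : ↥(Spec (CommRingCat.of A)), topologicalKrullDim ↥((X ↘ Spec (CommRingCat.of A)).fiber y) ≤ r)
    {F : X.Modules} (hF : Coh.IsCoh F) {p : ℕ} (hp : r < p) : Subsingleton (Coh.HH X F p) := by
  haveI := compactSpace_of_proper_over A X
  haveI := isSeparated_of_proper_over A X
  rw [← Module.support_eq_empty_iff (R := A)]
  refine Set.eq_empty_of_forall_notMem fun P hP => ?_
  let B := Localization.AtPrime P.asIdeal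
  let π := X ↘ Spec (CommRingCat.of A)
  let t := Spec.map (CommRingCat.ofHom (algebraMap A B))
  let X₁ := pullback π t
  letI : X₁.Over (Spec (CommRingCat.of B)) := ⟨pullback.snd π t⟩
  let g : X₁ ⟶ X := pullback.fst π t
  have hsq : IsPullback g (X₁ ↘ Spec (CommRingCat.of B)) π t := IsPullback.of_hasPullback _ _
  haveI : IsProper (X₁ ↘ Spec (CommRingCat.of B)) :=
    MorphismProperty.pullback_snd (P := @IsProper) π t inferInstance
  haveI : IsPreimmersion t := IsPreimmersion.of_isLocalization (S := B) P.asIdeal.primeCompl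
  haveI : IsPreimmersion g := MorphismProperty.pullback_fst (P := @IsPreimmersion) π t inferInstance
  have hF₁ : Coh.IsCoh ((Scheme.Modules.pullback g).obj F) :=
    ⟨QCoh.isQCoh_pullback g hF.1, QCoh.isFT_pullback g hF.1 hF.2⟩
  have hrange : ∀ z : ↥((X₁ ↘ Spec (CommRingCat.of B)).base ⁻¹' {IsLocalRing.closedPoint B}),
      g z.1 ∈ π.base ⁻¹' {(P : ↥(Spec (CommRingCat.of A)))} := by
    intro z
    have hw : π (g z.1) = t ((X₁ ↘ Spec (CommRingCat.of B)) z.1) := congr($(hsq.w) z.1)
    show π (g z.1) = _
    rw [hw, show (X₁ ↘ Spec (CommRingCat.of B)) z.1 = IsLocalRing.closedPoint B from z.2]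
    exact PrimeSpectrum.ext (IsLocalization.AtPrime.comap_maximalIdeal B P.asIdeal)
  have hind : Topology.IsInducing (Set.codRestrict
      (fun z : ↥((X₁ ↘ Spec (CommRingCat.of B)).base ⁻¹' {IsLocalRing.closedPoint B}) => g z.1) _ hrange) :=
    (g.isEmbedding.isInducing.comp Topology.IsInducing.subtypeVal).codRestrict hrange
  have hdim := (hind.topologicalKrullDim_le.trans
    (π.fiberHomeo P).symm.isInducing.topologicalKrullDim_le).trans (hfib P)
  haveI := QGorRing.subsingleton_HH_of_closedFibre hF₁ hdim hp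
  obtain ⟨e⟩ := QCoh.nonempty_HH_flat_bc (B := B) g hsq hF.1 p
  have : Subsingleton (B ⊗[A] Coh.HH X F p) := e.symm.toEquiv.subsingleton
  haveI := (isLocalizedModule_iff_isBaseChange P.asIdeal.primeCompl B
    (TensorProduct.mk A B (Coh.HH X F p) 1)).2 (TensorProduct.isBaseChange A (Coh.HH X F p) B)
  have hN : Subsingleton (LocalizedModule P.asIdeal.primeCompl (Coh.HH X F p)) :=
    (IsLocalizedModule.iso P.asIdeal.primeCompl (TensorProduct.mk A B (Coh.HH X F p) 1)).toEquiv.subsingleton
  exact Module.notMem_support_iff.2 hN hP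

/-- Vanishing for quasi-coherent modules. -/
theorem subsingleton_HH_qcoh {r : ℕ}
    (hfib : ∀ y : ↥(Spec (CommRingCat.of A)), topologicalKrullDim ↥((X ↘ Spec (CommRingCat.of A)).fiber y) ≤ r)
    {F : X.Modules} (hF : Coh.IsQCoh F) {p : ℕ} (hp : r < p) : Subsingleton (Coh.HH X F p) := by
  haveI := compactSpace_of_proper_over A X
  haveI := isSeparated_of_proper_over A X
  exact QcqsColim.subsingleton_HH_of_ftSub hF p fun N hN =>
    subsingleton_HH_coh hfib ⟨QCoh.isQCoh_of_ftOn hF hN, QCoh.isFT_of_ftOn hF hN⟩ hp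

end Groth.Agent.CanonDual
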