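import Mathlib.CategoryTheory.Abelian.Basic
import Mathlib.CategoryTheory.Adjunction.Additive
import Mathlib.CategoryTheory.Adjunction.Limits

/-!
# Right adjoints of an exact conservative right adjoint from a representing object upstairs
-/

set_option autoImplicit false

set_option linter.style.haveILetI false

universe v₁ v₂ u₁ u₂

open CategoryTheory CategoryTheory.Limits

namespace Groth.Agent.CanonDual

variable {A : Type u₁} [Category.{v₁} A] [Abelian A] {B : Type u₂} [Category.{v₂} B] [Abelian B]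
  {L : A ⥤ B} {U : B ⥤ A}

/-- If `N` represents `G ↦ Hom(U L G, ω)`, then `F ↦ Hom(U F, ω)` is representable, by a quotient
of `L N`. -/
theorem exists_represents_push (adj : L ⊣ U) [U.Additive] [L.Additive] (P : A → Prop) (Q : B → Prop)
    (hL : ∀ G, P G → Q (L.obj G)) (hU : ∀ F, Q F → P (U.obj F))
    (hcok : ∀ {F F' : B} (f : F ⟶ F'), Q F → Q F' → Q (cokernel f))
    (hpres : ∀ {F F' : B} (f : F ⟶ F'), Q F → Q F' → PreservesColimit (parallelPair f 0) U)
    (hiso : ∀ {F F' : B} (φ : F ⟶ F'), Q F → Q F' → IsIso (U.map φ) → IsIso φ)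
    {ω : A} {N : A} (hN : P N) (ev : U.obj (L.obj N) ⟶ ω)
    (hev : ∀ G, P G → Function.Bijective fun g : G ⟶ N => U.map (L.map g) ≫ ev) :
    ∃ (W : B) (τ : U.obj W ⟶ ω) (ρ : U.obj W ≅ N), Q W ∧
      ∀ F, Q F → Function.Bijective fun φ : F ⟶ W => U.map φ ≫ τ := by
  obtain ⟨ε, hεn, η, hηn, tri₁, tri₂⟩ : ∃ (ε : ∀ F : B, L.obj (U.obj F) ⟶ F)
      (_ : ∀ {F F' : B} (f : F ⟶ F'), L.map (U.map f) ≫ ε F' = ε F ≫ f)
      (η : ∀ G : A, G ⟶ U.obj (L.obj G))
      (_ : ∀ {G G' : A} (g : G ⟶ G'), g ≫ η G' = η G ≫ U.map (L.map g))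
      (_ : ∀ G : A, L.map (η G) ≫ ε (L.obj G) = 𝟙 (L.obj G)),
      ∀ F : B, η (U.obj F) ≫ U.map (ε F) = 𝟙 (U.obj F) :=
    ⟨fun F => adj.counit.app F, fun f => adj.counit.naturality f, fun G => adj.unit.app G,
      fun g => adj.unit.naturality g, fun G => adj.left_triangle_components G,
      fun F => adj.right_triangle_components F⟩
  have hTN : P (U.obj (L.obj N)) := hU _ (hL _ hN)
  obtain ⟨a, ha⟩ := (hev _ hTN).2 (U.map (ε (L.obj N)) ≫ ev)
  change U.map (L.map a) ≫ ev = _ at ha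
  have hunit : η N ≫ a = 𝟙 N := by
    refine (hev N hN).1 ?_
    show U.map (L.map (η N ≫ a)) ≫ ev = U.map (L.map (𝟙 N)) ≫ ev
    rw [L.map_comp, U.map_comp, Category.assoc, ha, ← Category.assoc, ← U.map_comp,
      tri₁, L.map_id]
  have hassoc : U.map (L.map a) ≫ a = U.map (ε (L.obj N)) ≫ a := by
    refine (hev _ (hU _ (hL _ hTN))).1 ?_
    show U.map (L.map (U.map (L.map a) ≫ a)) ≫ ev =
      U.map (L.map (U.map (ε (L.obj N)) ≫ a)) ≫ ev
    rw [L.map_comp, U.map_comp, Category.assoc, ha, L.map_comp, U.map_comp, Category.assoc, ha,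
      ← Category.assoc, ← U.map_comp, hεn, U.map_comp, Category.assoc, ha,
      ← Category.assoc, ← U.map_comp, ← Category.assoc, ← U.map_comp, hεn]
  let d : L.obj (U.obj (L.obj N)) ⟶ L.obj N := L.map a - ε (L.obj N)
  let c : L.obj N ⟶ cokernel d := cokernel.π d
  have hQ₁ : Q (L.obj (U.obj (L.obj N))) := hL _ hTN
  have hQW : Q (cokernel d) := hcok d hQ₁ (hL _ hN)
  haveI := hpres d hQ₁ (hL _ hN)
  have hc : L.map a ≫ c = ε (L.obj N) ≫ c := by
    rw [← sub_eq_zero, ← Preadditive.sub_comp]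
    show d ≫ c = 0
    exact cokernel.condition d
  have hda : U.map d ≫ a = 0 := by
    show U.map (L.map a - ε (L.obj N)) ≫ a = 0
    rw [U.map_sub, Preadditive.sub_comp, hassoc, sub_self]
  let ρ : U.obj (cokernel d) ⟶ N := (PreservesCokernel.iso U d).hom ≫ cokernel.desc _ a hda
  have hcρ : U.map c ≫ ρ = a := by
    rw [← Category.assoc, PreservesCokernel.π_iso_hom, cokernel.π_desc]
  have haη : a ≫ η N ≫ U.map c = U.map c := by
    have h1 : a ≫ η N = η (U.obj (L.obj N)) ≫ U.map (L.map a) :=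
      (hηn a)
    rw [← Category.assoc, h1, Category.assoc, ← U.map_comp, hc, U.map_comp, ← Category.assoc,
      tri₂, Category.id_comp]
  haveI : Epi (U.map c) := by
    have : U.map c ≫ (PreservesCokernel.iso U d).hom = cokernel.π (U.map d) := PreservesCokernel.π_iso_hom ..
    have h2 : U.map c = cokernel.π (U.map d) ≫ (PreservesCokernel.iso U d).inv := by
      rw [← this, Category.assoc, Iso.hom_inv_id, Category.comp_id]
    rw [h2]
    infer_instance
  have hρ₁ : ρ ≫ η N ≫ U.map c = 𝟙 _ := by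
    rw [← cancel_epi (U.map c), reassoc_of% hcρ, haη, Category.comp_id]
  have hρ₂ : (η N ≫ U.map c) ≫ ρ = 𝟙 N := by
    rw [Category.assoc, hcρ, hunit]
  let τ : U.obj (cokernel d) ⟶ ω := ρ ≫ η N ≫ ev
  have hτ : U.map c ≫ τ = ev := by
    have h1 : a ≫ η N = η (U.obj (L.obj N)) ≫ U.map (L.map a) := hηn a
    rw [reassoc_of% hcρ, reassoc_of% h1, ha, ← Category.assoc, tri₂,
      Category.id_comp]
  refine ⟨cokernel d, τ, ⟨ρ, η N ≫ U.map c, hρ₁, hρ₂⟩, hQW, fun F hF => ?_⟩
  have hPF : P (U.obj F) := hU F hF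
  have hQ₂ : Q (L.obj (U.obj F)) := hL _ hPF
  -- the counit is the cokernel of its two lifts
  let e : L.obj (U.obj (L.obj (U.obj F))) ⟶ L.obj (U.obj F) :=
    L.map (U.map (ε F)) - ε (L.obj (U.obj F))
  have he : e ≫ ε F = 0 := by
    rw [Preadditive.sub_comp, sub_eq_zero]
    exact hεn (ε F)
  let δ : cokernel e ⟶ F := cokernel.desc e (ε F) he
  have hQe : Q (L.obj (U.obj (L.obj (U.obj F)))) := hL _ (hU _ hQ₂)
  haveI := hpres e hQe hQ₂
  have hπ : U.map (ε F) ≫ η (U.obj F) ≫ U.map (cokernel.π e) = U.map (cokernel.π e) := by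
    have hx : L.map (U.map (ε F)) ≫ cokernel.π e =
        ε (L.obj (U.obj F)) ≫ cokernel.π e := by
      rw [← sub_eq_zero, ← Preadditive.sub_comp]
      exact cokernel.condition e
    have h1 : U.map (ε F) ≫ η (U.obj F) =
        η (U.obj (L.obj (U.obj F))) ≫ U.map (L.map (U.map (ε F))) :=
      hηn _
    rw [reassoc_of% h1, ← U.map_comp, hx, U.map_comp, ← Category.assoc, tri₂,
      Category.id_comp]
  haveI : Epi (U.map (cokernel.π e)) := by
    have h2 : U.map (cokernel.π e) = cokernel.π (U.map e) ≫ (PreservesCokernel.iso U e).inv := by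
      rw [← PreservesCokernel.π_iso_hom U e, Category.assoc, Iso.hom_inv_id, Category.comp_id]
    rw [h2]
    infer_instance
  haveI : IsIso (U.map δ) := by
    refine ⟨η (U.obj F) ≫ U.map (cokernel.π e), ?_, ?_⟩
    · rw [← cancel_epi (U.map (cokernel.π e)), ← Category.assoc, ← U.map_comp, cokernel.π_desc, hπ,
        Category.comp_id]
    · rw [Category.assoc, ← U.map_comp, cokernel.π_desc, tri₂]
  haveI : IsIso δ := hiso δ (hcok e hQe hQ₂) hF inferInstance
  haveI : Epi (ε F) := by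
    have h3 : ε F = cokernel.π e ≫ δ := (cokernel.π_desc _ _ _).symm
    rw [h3]
    infer_instance
  haveI : Epi (L.map (U.map c)) := by
    haveI : L.IsLeftAdjoint := adj.isLeftAdjoint
    infer_instance
  have hεW : L.map ρ ≫ c = ε (cokernel d) := by
    rw [← cancel_epi (L.map (U.map c)), ← Category.assoc, ← L.map_comp, hcρ, hc, hεn]
  refine ⟨fun φ φ' h => ?_, fun f => ?_⟩
  · have key : ∀ ψ : F ⟶ cokernel d, U.map (L.map (U.map ψ ≫ ρ)) ≫ ev =
        U.map (ε F) ≫ U.map ψ ≫ τ := fun ψ => by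
      rw [L.map_comp, U.map_comp, Category.assoc, ← hτ, ← Category.assoc (U.map (L.map ρ)), ← U.map_comp,
        hεW, ← Category.assoc, ← U.map_comp, hεn, U.map_comp, Category.assoc]
    have hg : U.map φ ≫ ρ = U.map φ' ≫ ρ := by
      refine (hev _ hPF).1 ?_
      show U.map (L.map (U.map φ ≫ ρ)) ≫ ev = U.map (L.map (U.map φ' ≫ ρ)) ≫ ev
      rw [key, key]
      exact congrArg (U.map (ε F) ≫ ·) h
    have hUφ : U.map φ = U.map φ' := by
      have := congrArg (· ≫ η N ≫ U.map c) hg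
      simpa [Category.assoc, hρ₁] using this
    rw [← cancel_epi (ε F), ← hεn φ, ← hεn φ', hUφ]
  · obtain ⟨g, hg⟩ := (hev _ hPF).2 (U.map (ε F) ≫ f)
    change U.map (L.map g) ≫ ev = _ at hg
    have hlin : U.map (ε F) ≫ g = U.map (L.map g) ≫ a := by
      refine (hev _ (hU _ hQ₂)).1 ?_
      show U.map (L.map (U.map (ε F) ≫ g)) ≫ ev = U.map (L.map (U.map (L.map g) ≫ a)) ≫ ev
      rw [L.map_comp, U.map_comp, Category.assoc, hg, L.map_comp, U.map_comp, Category.assoc, ha,
        ← Category.assoc, ← U.map_comp, ← Category.assoc, ← U.map_comp, hεn,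
        hεn, U.map_comp, U.map_comp, Category.assoc, Category.assoc, hg]
    have hz : e ≫ L.map g ≫ c = 0 := by
      rw [Preadditive.sub_comp, sub_eq_zero, ← Category.assoc, ← L.map_comp, hlin, L.map_comp,
        Category.assoc, hc, ← Category.assoc, hεn, Category.assoc]
    let φ : F ⟶ cokernel d := inv δ ≫ cokernel.desc e (L.map g ≫ c) hz
    have hφ : ε F ≫ φ = L.map g ≫ c := by
      have h3 : ε F = cokernel.π e ≫ δ := (cokernel.π_desc _ _ _).symm
      rw [h3]
      show (cokernel.π e ≫ δ) ≫ inv δ ≫ cokernel.desc e (L.map g ≫ c) hz = _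
      rw [Category.assoc, IsIso.hom_inv_id_assoc, cokernel.π_desc]
    haveI : Epi (U.map (ε F)) :=
      (SplitEpi.mk (η (U.obj F)) (tri₂ F)).epi
    refine ⟨φ, ?_⟩
    show U.map φ ≫ τ = f
    rw [← cancel_epi (U.map (ε F)), ← Category.assoc, ← U.map_comp, hφ, U.map_comp,
      Category.assoc, hτ, hg]

end Groth.Agent.CanonDual
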