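import Groth.Prelude.Def_Canon
import Groth.Agent.QCoh.PushLin
import Groth.Agent.QCoh.Qcqs

/-!
# Cohomology along an affine morphism over an affine base, linearly and naturally; dualizing pairs
-/

set_option autoImplicit false
set_option linter.style.haveILetI false
set_option backward.isDefEq.respectTransparency false
set_option backward.isDefEq.respectTransparency.types false

universe u

open CategoryTheory CategoryTheory.Limits AlgebraicGeometry TopologicalSpace Opposite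

namespace Groth.Agent.CanonDual

variable {A : Type u} [CommRing A] {X Z : Scheme.{u}} [X.Over (Spec (CommRingCat.of A))]
  [Z.Over (Spec (CommRingCat.of A))]

/-- `H^r(X, F) = H^r(Z, π_* F)`, linearly and naturally. -/
theorem exists_natural_linearEquiv_push (π : X ⟶ Z) [IsAffineHom π]
    (hπ : π ≫ (Z ↘ Spec (CommRingCat.of A)) = X ↘ Spec (CommRingCat.of A)) (r : ℕ) :
    ∃ e : ∀ F : X.Modules, Coh.IsQCoh F → (Coh.HH X F r ≃ₗ[A] Coh.HH Z ((Coh.push π).obj F) r),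
      ∀ (F G : X.Modules) (hF : Coh.IsQCoh F) (hG : Coh.IsQCoh G) (φ : F ⟶ G) (x : Coh.HH X F r),
        e G hG (Canon.HHlin A φ r x) = Canon.HHlin A ((Coh.push π).map φ) r (e F hF x) := by
  have hb : QCoh.Ab.PreimageBasis π.base (QCoh.stdCovers X) := fun U y hy => by
    obtain ⟨_, ⟨W, hW, rfl⟩, hyW, hWU⟩ := Z.isBasis_affineOpens.exists_subset_of_mem_open hy U.2
    exact ⟨W, hWU, hyW, hW.preimage π⟩
  obtain ⟨e, he⟩ := QCoh.Ab.H_push_natural π.base (QCoh.stdCovers X) hb r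
  have hlin : ∀ (F : X.Modules) (hF : Coh.IsQCoh F) (a : A) (x : Coh.HH X F r),
      e (QCoh.abSheaf F) (QCoh.stdCovers_acyclic hF) (a • x) =
        ((a • (show Coh.HH Z ((Coh.push π).obj F) r from e (QCoh.abSheaf F) (QCoh.stdCovers_acyclic hF) x)) :
          Coh.HH Z ((Coh.push π).obj F) r) := by
    intro F hF a x
    show e _ _ (Sheaf.H.map (Coh.smulAb F (Coh.toGlobal (X ↘ Spec (CommRingCat.of A)) a)) r x) =
      Sheaf.H.map (Coh.smulAb ((Coh.push π).obj F) (Coh.toGlobal (Z ↘ Spec (CommRingCat.of A)) a)) r (e _ _ x)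
    refine (he (QCoh.abSheaf F) (QCoh.abSheaf F) (QCoh.stdCovers_acyclic hF) (QCoh.stdCovers_acyclic hF) _ x).trans ?_
    rw [← QCoh.smulAb_push π F (Coh.toGlobal (Z ↘ Spec (CommRingCat.of A)) a)]
    refine congrArg (fun t => Sheaf.H.map ((CohTop.push π.base).map (Coh.smulAb F t)) r
      (e (QCoh.abSheaf F) (QCoh.stdCovers_acyclic hF) x)) ?_
    rw [← hπ]
    rfl
  refine ⟨fun F hF => AddEquiv.toLinearEquiv (e (QCoh.abSheaf F) (QCoh.stdCovers_acyclic hF)) (hlin F hF),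
    fun F G hF hG φ x => ?_⟩
  exact he (QCoh.abSheaf F) (QCoh.abSheaf G) (QCoh.stdCovers_acyclic hF) (QCoh.stdCovers_acyclic hG) _ x

omit [Z.Over (Spec (CommRingCat.of A))] in
/-- Functoriality of `HHlin`. -/
theorem HHlin_comp' {F G K : X.Modules} (φ : F ⟶ G) (ψ : G ⟶ K) (r : ℕ) (x : Coh.HH X F r) :
    Canon.HHlin A (φ ≫ ψ) r x = Canon.HHlin A ψ r (Canon.HHlin A φ r x) := by
  show Sheaf.H.map ((SheafOfModules.toSheaf X.ringCatSheaf).map (φ ≫ ψ)) r x = _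
  rw [Functor.map_comp, Sheaf.H.map_comp_apply]
  rfl

/-- The dualizing pair of a scheme finite over one with a dualizing pair. -/
theorem exists_isRDualOver_of_finite (π : X ⟶ Z) [IsFinite π]
    (hπ : π ≫ (Z ↘ Spec (CommRingCat.of A)) = X ↘ Spec (CommRingCat.of A)) (r : ℕ)
    (ωZ : Z.Modules) (trZ : Coh.HH Z ωZ r →ₗ[A] A) (hZ : Canon.IsRDualOver A Z r ωZ trZ)
    (ωX : X.Modules) (hωX : Coh.IsQCoh ωX) (τ : (Coh.push π).obj ωX ⟶ ωZ)
    (huniv : ∀ F : X.Modules, Coh.IsQCoh F →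
      Function.Bijective (fun φ : F ⟶ ωX => (Coh.push π).map φ ≫ τ)) :
    ∃ trX : Coh.HH X ωX r →ₗ[A] A, Canon.IsRDualOver A X r ωX trX := by
  obtain ⟨e, he⟩ := exists_natural_linearEquiv_push π hπ r
  refine ⟨trZ ∘ₗ Canon.HHlin A τ r ∘ₗ (e ωX hωX).toLinearMap, hωX, fun F hF => ?_⟩
  let E : (Coh.HH Z ((Coh.push π).obj F) r →ₗ[A] A) ≃ (Coh.HH X F r →ₗ[A] A) :=
    { toFun := fun g => g ∘ₗ (e F hF).toLinearMap
      invFun := fun g => g ∘ₗ (e F hF).symm.toLinearMap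
      left_inv := fun g => by ext x; exact congrArg g ((e F hF).apply_symm_apply x)
      right_inv := fun g => by ext x; exact congrArg g ((e F hF).symm_apply_apply x) }
  have h := E.bijective.comp ((hZ.2 _ (QCoh.isQCoh_pushforward π hF)).comp (huniv F hF))
  refine (congrArg Function.Bijective (funext fun φ => LinearMap.ext fun x => ?_)).mp h
  show trZ (Canon.HHlin A ((Coh.push π).map φ ≫ τ) r (e F hF x)) =
    trZ (Canon.HHlin A τ r (e ωX hωX (Canon.HHlin A φ r x)))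
  rw [he F ωX hF hωX φ x, HHlin_comp']

omit [Z.Over (Spec (CommRingCat.of A))] in
/-- Dualizing pairs are unique up to a unique isomorphism. -/
theorem existsUnique_hom_isIso {r : ℕ} {ω ω' : X.Modules} {tr : Coh.HH X ω r →ₗ[A] A}
    {tr' : Coh.HH X ω' r →ₗ[A] A} (h : Canon.IsRDualOver A X r ω tr) (h' : Canon.IsRDualOver A X r ω' tr') :
    (∃! ρ : ω' ⟶ ω, tr ∘ₗ Canon.HHlin A ρ r = tr') ∧
      ∀ ρ : ω' ⟶ ω, tr ∘ₗ Canon.HHlin A ρ r = tr' → IsIso ρ := by
  obtain ⟨ρ, hρ, huniq⟩ := (h.2 ω' h'.1).existsUnique tr'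
  refine ⟨⟨ρ, hρ, huniq⟩, fun ρ hρ => ?_⟩
  obtain ⟨σ, hσ⟩ := (h'.2 ω h.1).2 tr
  have hid : ∀ (F : X.Modules) (x : Coh.HH X F r), Canon.HHlin A (𝟙 F) r x = x := fun F x => by
    show Sheaf.H.map ((SheafOfModules.toSheaf X.ringCatSheaf).map (𝟙 F)) r x = x
    rw [CategoryTheory.Functor.map_id, Sheaf.H.map_id_apply]
  refine ⟨⟨σ, (h'.2 ω' h'.1).1 (LinearMap.ext fun x => ?_), (h.2 ω h.1).1 (LinearMap.ext fun x => ?_)⟩⟩
  · show tr' (Canon.HHlin A (ρ ≫ σ) r x) = tr' (Canon.HHlin A (𝟙 ω') r x)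
    rw [hid, HHlin_comp']
    exact (LinearMap.congr_fun hσ _).trans (LinearMap.congr_fun hρ x)
  · show tr (Canon.HHlin A (σ ≫ ρ) r x) = tr (Canon.HHlin A (𝟙 ω) r x)
    rw [hid, HHlin_comp']
    exact (LinearMap.congr_fun hρ _).trans (LinearMap.congr_fun hσ x)

end Groth.Agent.CanonDual
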