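import Groth.Agent.GGen.Wedge
import Groth.Agent.DRHyp.Terms
import Groth.Agent.QCoh.LocFree
import Groth.Agent.Lib.CurveDualPrep
import Groth.Agent.LogModGeo.Free
import Groth.Agent.GrpSchLib.IsogenyFibre
import Groth.Agent.PicFRel.AlgClosedFamily
import Groth.Prelude.Def_Canon
import Groth.Prelude.Def_RedSub

/-!
# The top differentials of a smooth morphism; properness of locally projective morphisms
-/

set_option autoImplicit false
set_option linter.style.haveILetI false
set_option backward.isDefEq.respectTransparency false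
set_option backward.isDefEq.respectTransparency.types false

universe u

open CategoryTheory CategoryTheory.Limits AlgebraicGeometry

namespace Groth.Agent.CanonDual

variable {X S : Scheme.{u}}

theorem isInvertible_of_isExtPow {E L : X.Modules} {n : ℕ} (hE : FlatMod.IsFinLocFreeOfRank n E)
    (hq : Coh.IsQCoh E) (hL : ExtPow.IsExtPow n E L) : PicF.IsInvertible L := by
  have hLq := DRHyp.isQCoh_of_isExtPow hq n hL
  refine CurveDuality.isInvertible_of_rank_one fun x => ?_
  obtain ⟨V, hxV, ⟨b⟩⟩ := GGen.exists_basis_sections hE x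
  let b' := b.exteriorPower n
  haveI : Unique (Set.powersetCard (Fin n) n) := by
    refine @uniqueOfSubsingleton _ ?_ ⟨Finset.univ, by simp [Set.powersetCard]⟩
    exact ⟨fun a c => Subtype.ext ((Finset.card_eq_iff_eq_univ a.1).1 (by simpa using a.2) |>.trans
      ((Finset.card_eq_iff_eq_univ c.1).1 (by simpa using c.2)).symm)⟩
  let l : Γ(L, V.1) ≃ₗ[Γ(X, V.1)] (ULift.{u} (Fin 1) →₀ Γ(X, V.1)) :=
    ((hL.choose V).trans b'.repr).trans (Finsupp.domLCongr (Equiv.ofUnique _ _))
  exact ⟨V.1, hxV, QCoh.exists_free_restrict hLq V.2 l⟩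

theorem isFinLocFreeOfRank_omega (f : X ⟶ S) [QuasiSeparated f] (n : ℕ) [SmoothOfRelativeDimension n f] :
    FlatMod.IsFinLocFreeOfRank n (Omega.sheaf f) ∧ Coh.IsQCoh (Omega.sheaf f) := by
  have hd := OmegaUniv.isUniversal_dOmega f
  have hΩ : Coh.IsQCoh (Omega.sheaf f) := Synt29.OmegaStalk.isQCoh_of_isUniversal hd
  refine ⟨fun x => ?_, hΩ⟩
  obtain ⟨T, hT, V, hV, hxV, e, hstd⟩ :=
    SmoothOfRelativeDimension.exists_isStandardSmoothOfRelativeDimension (n := n) (f := f) x
  let _ := (f.appLE T V e).hom.toAlgebra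
  have : Algebra.IsStandardSmoothOfRelativeDimension n Γ(S, T) Γ(X, V) := hstd
  have : Algebra.IsStandardSmooth Γ(S, T) Γ(X, V) :=
    Algebra.IsStandardSmoothOfRelativeDimension.isStandardSmooth n
  have : Nontrivial Γ(X, V) := by
    refine ⟨⟨0, 1, fun h => ?_⟩⟩
    have h1 := congrArg (X.presheaf.germ V x hxV) h
    rw [map_zero, map_one] at h1
    exact zero_ne_one h1
  have hr : Module.finrank Γ(X, V) Ω[Γ(X, V)⁄Γ(S, T)] = n := by
    have := Algebra.IsStandardSmoothOfRelativeDimension.rank_kaehlerDifferential (R := Γ(S, T)) (S := Γ(X, V)) n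
    simp [Module.finrank, this]
  let b := (Module.finBasisOfFinrankEq Γ(X, V) Ω[Γ(X, V)⁄Γ(S, T)] hr).reindex Equiv.ulift.symm
  obtain ⟨l⟩ := Synt29.OmegaStalk.exists_linearEquiv_sections hd hV hT e
  exact ⟨V, hxV, QCoh.exists_free_restrict hΩ hV (l.trans b.repr)⟩

theorem isInvertible_of_isTopDiff (f : X ⟶ S) [QuasiSeparated f] (n : ℕ) [SmoothOfRelativeDimension n f] {ω : X.Modules}
    (h : Canon.IsTopDiff f n ω) : PicF.IsInvertible ω :=
  isInvertible_of_isExtPow (isFinLocFreeOfRank_omega f n).1 (isFinLocFreeOfRank_omega f n).2 h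

/-- A locally projective morphism is proper. -/
theorem isProper_of_isLocallyProjective (f : X ⟶ S) (h : RedSub.IsLocallyProjective (Over.mk f)) :
    IsProper f := by
  choose V hV n e he hcomp using h
  refine (IsZariskiLocalAtTarget.iff_of_iSup_eq_top (P := @IsProper) V
    (TopologicalSpace.Opens.ext (Set.eq_univ_of_forall fun s => ?_))).2 fun s => ?_
  · rw [TopologicalSpace.Opens.coe_iSup]
    exact Set.mem_iUnion.2 ⟨s, hV s⟩
  · haveI := PicFRel.AlgClosedFamily.isProper_toBase (n s) (V s : Scheme.{u})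
    haveI := he s
    have h2 : IsProper (Red.bc (V s).ι (Over.mk f)).hom := hcomp s ▸ inferInstance
    haveI : IsProper (pullback.snd f (V s).ι) := h2
    rw [← (isPullback_morphismRestrict f (V s)).flip.isoPullback_hom_snd]
    infer_instance

end Groth.Agent.CanonDual
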