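import Groth.Agent.CanonDual.FibreVanishAffine
import Groth.Agent.Lib.PnDualQCoh
import Groth.Agent.AmpleVan.ThickPush

/-!
# Duality on the twists gives duality for all quasi-coherent modules
-/

set_option linter.style.haveILetI false
set_option linter.unusedSectionVars false
set_option backward.isDefEq.respectTransparency false
set_option backward.isDefEq.respectTransparency.types false
set_option synthInstance.maxHeartbeats 400000
set_option maxHeartbeats 1600000

universe u

open CategoryTheory CategoryTheory.Limits AlgebraicGeometry TopologicalSpace Opposite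
open Groth.Agent.PnCoh Groth.Agent.PnCoh.Finite

noncomputable section

namespace Groth.Agent.CanonDual

variable {A : Type u} [CommRing A] [IsNoetherianRing A] {n : ℕ}

/-- The twists are coherent. -/
theorem isCoh_twist (d : ℤ) : Coh.IsCoh (Twist.twist (CohB1.polyGrading n A) d) := by
  refine ⟨isQCoh_twist _ PnDual.coordsR_mem PnDual.coordsR_cover d,
    QCoh.isFT_of_finite (isQCoh_twist _ PnDual.coordsR_mem PnDual.coordsR_cover d)
      (fun j => D (CohB1.polyGrading n A) (PnDual.coordsR A n j)) PnDual.coordsR_cover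
      (fun j => isAffineOpen_D PnDual.coordsR_mem j)
      fun j => finite_twist_sections PnDual.coordsR_mem d j⟩

/-- A coherent module on a closed subscheme is a quotient of pulled back twists. -/
theorem exists_presentation_closed {X : Scheme.{u}} (ι : X ⟶ CohB1.ProjSpace n A) [IsClosedImmersion ι]
    {F : X.Modules} (hF : Coh.IsCoh F) :
    ∃ (κ : Type u) (_ : Fintype κ) (d : κ → ℤ) (S : ShortComplex X.Modules)
      (p : ∀ a, S.X₂ ⟶ (Scheme.Modules.pullback ι).obj (Twist.twistProjSpace n A (d a)))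
      (q : ∀ a, (Scheme.Modules.pullback ι).obj (Twist.twistProjSpace n A (d a)) ⟶ S.X₂),
      S.ShortExact ∧ S.X₃ = F ∧ Coh.IsCoh S.X₁ ∧ ∑ a, p a ≫ q a = 𝟙 S.X₂ := by
  haveI hP : IsNoetherian (CohB1.ProjSpace n A) :=
    (Proj16.isNoetherian_proj _ : IsNoetherian (Proj (CohB1.polyGrading n A)))
  haveI : IsLocallyNoetherian X := LocallyOfFiniteType.isLocallyNoetherian ι
  have hpush : Coh.IsCoh ((Scheme.Modules.pushforward ι).obj F) := QCoh.isCoh_pushforward_finite ι hF
  obtain ⟨κ, _, d, S, p, q, hS, hS3, -, hE, hpq⟩ :=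
    exists_presentation PnDual.coordsR_mem PnDual.coordsR_cover PnDual.coordsR_noetherian
      (good_of_isCoh PnDual.coordsR_mem hpush)
  haveI := hS.epi_g
  haveI := AmpleVan.isIso_counit ι hF.1
  let P := Scheme.Modules.pullback ι
  let g : P.obj S.X₂ ⟶ F :=
    P.map (S.g ≫ eqToHom hS3) ≫ (Scheme.Modules.pullbackPushforwardAdjunction ι).counit.app F
  haveI : P.IsLeftAdjoint := (Scheme.Modules.pullbackPushforwardAdjunction ι).isLeftAdjoint
  haveI : Epi (P.map (S.g ≫ eqToHom hS3)) := inferInstance
  haveI : Epi g := epi_comp _ _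
  have hX₂ : Coh.IsCoh S.X₂ := by
    classical
    haveI := QCoh.hasFiniteBiproducts (CohB1.ProjSpace n A)
    haveI : HasFiniteBiproducts (Proj (CohB1.polyGrading n A)).Modules := QCoh.hasFiniteBiproducts _
    let T : κ → (Proj (CohB1.polyGrading n A)).Modules := fun a => Twist.twist (CohB1.polyGrading n A) (d a)
    let l : S.X₂ ⟶ ⨁ T := biproduct.lift p
    haveI : IsSplitMono l := ⟨⟨{
      retraction := ∑ a, biproduct.π T a ≫ q a
      id := by
        rw [Preadditive.comp_sum]
        refine (Finset.sum_congr rfl fun a _ => ?_).trans hpq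
        exact (Category.assoc _ _ _).symm.trans (congrArg (· ≫ q a) (biproduct.lift_π p a)) }⟩⟩
    haveI : IsLocallyNoetherian (Proj (CohB1.polyGrading n A)) := hP.toIsLocallyNoetherian
    exact QCoh.isCoh_of_mono l (QCoh.isCoh_biproduct _ fun a => isCoh_twist (d a)) hE
  have hPX₂ : Coh.IsCoh (P.obj S.X₂) :=
    ⟨QCoh.isQCoh_pullback ι hX₂.1, QCoh.isFT_pullback ι hX₂.1 hX₂.2⟩
  refine ⟨κ, inferInstance, d, ShortComplex.mk (kernel.ι g) g (kernel.condition g),
    fun a => P.map (p a), fun a => P.map (q a), ⟨ShortComplex.exact_of_f_is_kernel _ (kernelIsKernel g)⟩,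
    rfl, QCoh.isCoh_kernel hPX₂ hF g, ?_⟩
  haveI : P.Additive := inferInstance
  rw [Finset.sum_congr rfl fun a _ => (P.map_comp (p a) (q a)).symm, ← P.map_sum, hpq]
  exact P.map_id _

/-- Duality on the pulled back twists gives duality for all quasi-coherent modules. -/
theorem isRDualOver_of_twists {r : ℕ} {X : Scheme.{u}} [X.Over (Spec (CommRingCat.of A))]
    (ι : X ⟶ CohB1.ProjSpace n A) [IsClosedImmersion ι]
    (hι : ι ≫ CohB1.ProjSpace.toSpec n A = X ↘ Spec (CommRingCat.of A))
    (hfib : ∀ y : ↥(Spec (CommRingCat.of A)), topologicalKrullDim ↥((X ↘ Spec (CommRingCat.of A)).fiber y) ≤ r)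
    {ω : X.Modules} (hω : Coh.IsQCoh ω) (tr : Coh.HH X ω r →ₗ[A] A)
    (h : ∀ m : ℤ, Function.Bijective
      (Canon.dualityMap A X r ω tr ((Scheme.Modules.pullback ι).obj (Twist.twistProjSpace n A m)))) :
    Canon.IsRDualOver A X r ω tr := by
  haveI : IsProper (CohB1.ProjSpace.toSpec n A) := PnCoh.Chow.isProper_toSpec n A
  haveI : IsProper (X ↘ Spec (CommRingCat.of A)) := hι ▸ inferInstance
  haveI := compactSpace_of_proper_over A X
  haveI := isSeparated_of_proper_over A X
  have hinj : ∀ {F : X.Modules}, Coh.IsCoh F → Function.Injective (Canon.dualityMap A X r ω tr F) := by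
    intro F hF
    obtain ⟨κ, _, d, S, p, q, hS, rfl, -, hpq⟩ := exists_presentation_closed ι hF
    haveI := hS.epi_g
    exact PnDual.injective_of_epi S.g
      (PnDual.bijective_of_decomposition _ p q hpq fun a => h (d a)).1
  refine ⟨hω, fun F hF => PnDual.bijective_of_ftSub hF fun N hN => ?_⟩
  obtain ⟨κ, _, d, S, p, q, hS, hS3, hK, hpq⟩ :=
    exists_presentation_closed ι (F := N.toModules) ⟨QCoh.isQCoh_of_ftOn hF hN, QCoh.isFT_of_ftOn hF hN⟩
  rw [← hS3]
  exact PnDual.bijective_of_presentation hS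
    (subsingleton_HH_qcoh hfib hK.1 (Nat.lt_succ_self r))
    (PnDual.bijective_of_decomposition _ p q hpq fun a => h (d a)) (hinj hK)

end Groth.Agent.CanonDual
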